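import Cfsg.Agent.Lib.Coprime.OddInvariant.Basic
import Cfsg.Agent.Lib.PLocal.ZJCenterFusion
import Cfsg.Agent.Solvable.Thompson

/-!
Groups all of whose proper invariant subgroups are nilpotent, under coprime action.
-/

set_option autoImplicit false
set_option linter.style.haveILetI false

open scoped Pointwise

namespace Cfsg.Agent.Coprime.OddInvariant

open Subgroup Cfsg Cfsg.Agent.Hall.OddExt

universe u v

theorem conj_smul_of_normal {G : Type u} [Group G] {H : Subgroup G} (hH : H.Normal) (g : G) :
    MulAut.conj g • H = H :=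
  Coprime.conj_smul_eq_self_iff.2 (normalizer_eq_top_iff.2 hH ▸ mem_top g)

/-- The action induced on a quotient by an invariant normal subgroup. -/
theorem exists_quotient_action {G : Type u} [Group G] {A : Type v} [Group A] (φ : A →* MulAut G)
    (N : Subgroup G) [N.Normal] (hN : ∀ a, N.map (φ a).toMonoidHom = N) :
    ∃ ψ : A →* MulAut (G ⧸ N), ∀ a (x : G), ψ a (x : G ⧸ N) = ((φ a x : G) : G ⧸ N) := by
  refine ⟨{ toFun := fun a => QuotientGroup.congr N N (φ a) (hN a)
            map_one' := MulEquiv.ext fun y => ?_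
            map_mul' := fun a b => MulEquiv.ext fun y => ?_ }, fun a x => rfl⟩ <;>
    induction y using QuotientGroup.induction_on <;> simp <;> rfl

variable {A : Type v} [Group A] [Finite A]

theorem isSolvable_of_nilpotent (hodd : OddSolvable.{u}) : ∀ (n : ℕ) {G : Type u} [Group G]
    [Finite G] (φ : A →* MulAut G), Nat.card G = n → (Nat.card A).Coprime (Nat.card G) →
    (∀ H : Subgroup G, H ≠ ⊤ → (∀ a, ∀ x ∈ H, φ a x ∈ H) → Group.IsNilpotent H) →
    Group.IsSolvable G := by
  intro n
  induction n using Nat.strong_induction_on with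
  | _ n ih =>
    intro G _ _ φ hn hcop hnil
    by_cases h2 : IsPGroup 2 G
    · haveI : Fact (Nat.Prime 2) := ⟨Nat.prime_two⟩
      haveI := h2.isNilpotent
      infer_instance
    obtain ⟨p, hp, hpG, hp2⟩ : ∃ p : ℕ, p.Prime ∧ p ∣ Nat.card G ∧ p ≠ 2 := by
      by_contra hno
      push Not at hno
      exact h2 (IsPGroup.of_card (Nat.eq_prime_pow_of_unique_prime_dvd Nat.card_pos.ne'
        fun {d} hd hdd => hno d hd hdd))
    haveI := Fact.mk hp
    obtain ⟨P, hP⟩ := exists_sylow hodd φ hcop p
    set Z := centerThompsonOf p (P : Subgroup G) with hZ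
    have hZe : ∀ a, Z.map (φ a).toMonoidHom = Z := fun a => by
      show (PLocal.ThompsonComplement.Z (thompsonSubgroupOf p (P : Subgroup G))).map _ = _
      rw [PLocal.ThompsonComplement.map_Z (φ a).injective.injOn,
        PLocal.ThompsonComplement.map_J (φ a).injective.injOn, invariant_map_eq φ hP a]
      rfl
    have hZinv : ∀ a, ∀ x ∈ Z, φ a x ∈ Z := fun a x hx => (hZe a).le ⟨x, hx, rfl⟩
    have hP1 : (P : Subgroup G) ≠ ⊥ := P.ne_bot_of_dvd_card hpG
    have hZ1 : Z ≠ ⊥ := PLocal.ThompsonComplement.Z_ne_bot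
      (P.2.to_le (PLocal.ThompsonComplement.J_le _)) (PLocal.ThompsonComplement.J_ne_bot P.2 hP1)
    by_cases hN : normalizer (Z : Set G) = ⊤
    · haveI : Z.Normal := normalizer_eq_top_iff.1 hN
      obtain ⟨ψ, hψ⟩ := exists_quotient_action φ Z hZe
      have hcard : Nat.card (G ⧸ Z) < Nat.card G := by
        rw [Z.card_eq_card_quotient_mul_card_subgroup]
        exact lt_mul_of_one_lt_right Nat.card_pos (Z.one_lt_card_iff_ne_bot.2 hZ1)
      haveI : Group.IsSolvable (G ⧸ Z) := by
        refine ih _ (hn ▸ hcard) ψ rfl (hcop.coprime_dvd_right Z.card_quotient_dvd_card) fun H hH hinv => ?_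
        set L := H.comap (QuotientGroup.mk' Z)
        have hL : L ≠ ⊤ := fun h => hH (by
          rw [← map_comap_eq_self_of_surjective (QuotientGroup.mk'_surjective Z) H]
          show L.map _ = ⊤
          rw [h, map_top_of_surjective _ (QuotientGroup.mk'_surjective Z)])
        haveI := hnil L hL fun a x hx => by
          show ((φ a x : G) : G ⧸ Z) ∈ H
          rw [← hψ a x]
          exact hinv a _ hx
        exact Group.nilpotent_of_surjective ((QuotientGroup.mk' Z).subgroupComap H)
          ((QuotientGroup.mk' Z).subgroupComap_surjective_of_surjective H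
            (QuotientGroup.mk'_surjective Z))
      have hZp : IsPGroup p Z :=
        P.2.to_le (inf_le_left.trans (PLocal.ThompsonComplement.J_le _))
      haveI := hZp.isNilpotent
      exact (Group.isSolvable_iff_subgroup_quotient Z).mpr ⟨inferInstance, inferInstance⟩
    · haveI := hnil _ hN (normalizer_invariant φ hZinv)
      have hG : HasNormalPComplement p G :=
        PLocal.ZJCenterFusion.hasNormalPComplement hp2 P
          Cfsg.Agent.Solvable.Thompson.hasNormalPComplement_of_nilpotent
      obtain ⟨k, hk⟩ := Transfer.NormalPComplement.index_pResidual (p := p) (G := G)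
      set K := pResidual p G
      have hKc : (Nat.card K).Coprime p :=
        Transfer.NormalPComplement.hasNormalPComplement_iff_pResidual.1 hG
      have hK : K ≠ ⊤ := fun h => by
        rw [h, card_top] at hKc
        exact hp.ne_one (Nat.eq_one_of_dvd_coprimes hKc hpG dvd_rfl)
      haveI := hnil K hK fun a x hx =>
        Transfer.NormalPComplement.map_pResidual_le (p := p) (φ a).toMonoidHom ⟨x, hx, rfl⟩
      have hq : IsPGroup p (G ⧸ K) := Transfer.NormalPComplement.isPGroup_quotient_pResidual
      haveI := hq.isNilpotent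
      exact (Group.isSolvable_iff_subgroup_quotient K).mpr ⟨inferInstance, inferInstance⟩

theorem exists_maximal_above {G : Type u} [Group G] [Finite G] (φ : A →* MulAut G) {H : Subgroup G}
    (hH : H ≠ ⊤) (hinv : ∀ a, ∀ x ∈ H, φ a x ∈ H) :
    ∃ M, H ≤ M ∧ M ≠ ⊤ ∧ (∀ a, ∀ x ∈ M, φ a x ∈ M) ∧
      ∀ K : Subgroup G, M < K → (∀ a, ∀ x ∈ K, φ a x ∈ K) → K = ⊤ := by
  obtain ⟨M, hHM, ⟨hM, hMi⟩, hmax⟩ := Set.Finite.exists_le_maximal
    (Set.toFinite {M : Subgroup G | M ≠ ⊤ ∧ ∀ a, ∀ x ∈ M, φ a x ∈ M}) (a := H) ⟨hH, hinv⟩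
  refine ⟨M, hHM, hM, hMi, fun K hK hKi => ?_⟩
  by_contra hne
  exact hK.not_ge (hmax ⟨hne, hKi⟩ hK.le)

/-- The Schmidt-type structure. -/
theorem structure_of_nilpotent (hodd : OddSolvable.{u}) {G : Type u} [Group G] [Finite G]
    (φ : A →* MulAut G) (hcop : (Nat.card A).Coprime (Nat.card G))
    (hnil : ∀ H : Subgroup G, H ≠ ⊤ → (∀ a, ∀ x ∈ H, φ a x ∈ H) → Group.IsNilpotent H)
    (hG : ¬ Group.IsNilpotent G) :
    Group.IsSolvable G ∧
      (∃ p q a b : ℕ, p.Prime ∧ q.Prime ∧ p ≠ q ∧ Nat.card G = p ^ a * q ^ b) ∧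
      ∃ (p : ℕ) (P : Sylow p G), p.Prime ∧ p ∣ Nat.card G ∧ (P : Subgroup G).Normal ∧
        ∀ a : A, ∀ x ∈ (P : Subgroup G), φ a x ∈ (P : Subgroup G) := by
  classical
  have hsol := isSolvable_of_nilpotent hodd _ φ rfl hcop hnil
  haveI := hsol
  haveI : Nontrivial G := not_subsingleton_iff_nontrivial.1 fun _ => hG inferInstance
  have hD : commutator G < ⊤ := Group.IsSolvable.commutator_lt_top_of_nontrivial G
  obtain ⟨M, hDM, hM, hMi, hMmax⟩ := exists_maximal_above φ hD.ne fun a x hx => by
    have : (commutator G).map (φ a).toMonoidHom ≤ commutator G := by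
      rw [_root_.commutator_def, map_commutator]
      exact commutator_mono le_top le_top
    exact this ⟨x, hx, rfl⟩
  haveI : M.Normal := Subgroup.Normal.of_commutator_le G hDM
  haveI hMnil := hnil M hM hMi
  -- the quotient is a `p`-group
  obtain ⟨p, hp, hpd⟩ := Nat.exists_prime_and_dvd (n := M.index) (mt index_eq_one.1 hM)
  haveI := Fact.mk hp
  obtain ⟨P, hP⟩ := exists_sylow hodd φ hcop p
  have hPM : M ⊔ (P : Subgroup G) = ⊤ := by
    refine hMmax _ (lt_of_le_of_ne le_sup_left fun h => ?_) fun a x hx => ?_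
    · exact P.not_dvd_index (hpd.trans (index_dvd_of_le (h ▸ le_sup_right)))
    · obtain ⟨m, hm, y, hy, rfl⟩ := mem_sup_of_normal_left.1 hx
      rw [map_mul]
      exact mul_mem_sup (hMi a m hm) (hP a y hy)
  -- for `r ≠ p` the Sylow subgroup of `M` is a normal invariant Sylow subgroup of `G`
  have hR : ∀ r : ℕ, r.Prime → r ≠ p → ∃ R : Sylow r G, (R : Subgroup G).Normal ∧
      ∀ a, ∀ x ∈ (R : Subgroup G), φ a x ∈ (R : Subgroup G) := by
    intro r hr hrp
    haveI := Fact.mk hr
    obtain ⟨R, hR⟩ := exists_sylow hodd φ hcop r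
    have hidx : ∀ x ∈ (R : Subgroup G), x ∈ M := fun x hx => by
      obtain ⟨j, hj⟩ := IsPGroup.iff_card.1 P.2
      obtain ⟨k, hk⟩ := IsPGroup.iff_orderOf.1 R.2 ⟨x, hx⟩
      have h1 : M.index ∣ p ^ j := by
        rw [← hj, ← relIndex_top_right, ← hPM, sup_comm, relIndex_sup_right]
        exact relIndex_dvd_card M _
      refine (QuotientGroup.eq_one_iff x).1 (orderOf_eq_one_iff.1 (Nat.eq_one_of_dvd_coprimes
        (Nat.Coprime.pow k j ((Nat.coprime_primes hr hp).2 hrp)) ?_ ?_))
      · rw [← hk, ← Subgroup.orderOf_coe]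
        exact orderOf_map_dvd (QuotientGroup.mk' M) x
      · exact (_root_.orderOf_dvd_natCard _).trans h1
    set R' := R.subtype hidx
    haveI : (R' : Subgroup M).Normal :=
      Sylow.normal_of_normalizerCondition Group.normalizerCondition_of_isNilpotent R'
    haveI : (R' : Subgroup M).Characteristic := Sylow.characteristic_of_normal R' inferInstance
    have h : ((R' : Subgroup M).map M.subtype).Normal := inferInstance
    refine ⟨R, ?_, hR⟩
    have e : (R' : Subgroup M).map M.subtype = R := by
      show ((R : Subgroup G).subgroupOf M).map M.subtype = _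
      exact map_subgroupOf_eq_of_le hidx
    rwa [e] at h
  -- some other prime divides the order
  obtain ⟨q, hq, hqp, hqG⟩ : ∃ q : ℕ, q.Prime ∧ q ≠ p ∧ q ∣ Nat.card G := by
    by_contra hno
    push Not at hno
    refine hG (IsPGroup.isNilpotent (p := p) (IsPGroup.of_card
      (Nat.eq_prime_pow_of_unique_prime_dvd Nat.card_pos.ne' fun {d} hd hdd => ?_)))
    by_contra hne
    exact hno d hd hne hdd
  haveI := Fact.mk hq
  obtain ⟨Q, hQn, hQi⟩ := hR q hq hqp
  refine ⟨hsol, ⟨p, q, (Nat.card G).factorization p, (Nat.card G).factorization q, hp, hq,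
    hqp.symm, ?_⟩, q, Q, hq, hqG, hQn, hQi⟩
  by_contra hne
  -- a third prime
  have hthird : ∀ r : ℕ, r.Prime → r ≠ p → (R : Sylow r G) → (R : Subgroup G).Normal →
      (∀ a, ∀ x ∈ (R : Subgroup G), φ a x ∈ (R : Subgroup G)) →
      ∀ x ∈ (R : Subgroup G), ∀ y ∈ (P : Subgroup G), Commute x y := by
    intro r hr hrp R hRn hRi x hx y hy
    haveI := Fact.mk hr
    haveI := hRn
    set H := (P : Subgroup G) ⊔ (R : Subgroup G) with hH
    have hdvd : Nat.card H ∣ p ^ (Nat.card G).factorization p * r ^ (Nat.card G).factorization r := by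
      have h1 : Nat.card H = Nat.card (R : Subgroup G) * Nat.card (P : Subgroup G) := by
        rw [hH, sup_comm, Coprime.card_sup_of_coprime le_normalizer_of_normal]
        rw [R.card_eq_multiplicity, P.card_eq_multiplicity]
        exact Nat.Coprime.pow _ _ ((Nat.coprime_primes hr hp).2 hrp)
      rw [h1, R.card_eq_multiplicity, P.card_eq_multiplicity, mul_comm]
    have hHt : H ≠ ⊤ := fun h => by
      rw [h, card_top] at hdvd
      have hd := hdvd
      rcases eq_or_ne r q with rfl | hrq
      · refine hne (Nat.dvd_antisymm hd ?_)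
        exact (Nat.Coprime.pow _ _ ((Nat.coprime_primes hp hq).2 hqp.symm)).mul_dvd_of_dvd_of_dvd
          (Nat.ordProj_dvd _ p) (Nat.ordProj_dvd _ r)
      · rcases (hq.dvd_mul.1 (hqG.trans hd)) with h' | h'
        · exact hqp ((Nat.prime_dvd_prime_iff_eq hq hp).1 (hq.dvd_of_dvd_pow h'))
        · exact hrq ((Nat.prime_dvd_prime_iff_eq hq hr).1 (hq.dvd_of_dvd_pow h')).symm
    haveI := hnil H hHt fun a z hz => by
      obtain ⟨u, hu, w, hw, rfl⟩ := mem_sup_of_normal_right.1 hz
      rw [map_mul]
      exact mul_mem_sup (hP a u hu) (hRi a w hw)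
    have hPn : ((P.subtype (le_sup_left : (P : Subgroup G) ≤ H)) : Subgroup H).Normal :=
      Sylow.normal_of_normalizerCondition Group.normalizerCondition_of_isNilpotent _
    have hd : Disjoint ((P : Subgroup G).subgroupOf H) ((R : Subgroup G).subgroupOf H) := by
      rw [disjoint_iff, ← Subgroup.inf_subgroupOf_right]
      have : (P : Subgroup G) ⊓ (R : Subgroup G) = ⊥ := (Coprime.disjoint_of_coprime (by
        rw [R.card_eq_multiplicity, P.card_eq_multiplicity]
        exact Nat.Coprime.pow _ _ ((Nat.coprime_primes hp hr).2 hrp.symm))).eq_bot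
      ext z
      simp only [mem_inf, mem_subgroupOf, mem_bot]
      exact ⟨fun h => Subtype.ext ((Subgroup.mem_bot).1 (this ▸ ⟨h.1.1, h.2⟩)),
        fun h => by simp [h]⟩
    have := Subgroup.commute_of_normal_of_disjoint _ _ (show ((P : Subgroup G).subgroupOf H).Normal from hPn)
      inferInstance hd (⟨y, le_sup_left (a := (P : Subgroup G)) hy⟩ : H)
      (⟨x, le_sup_right (b := (R : Subgroup G)) hx⟩ : H) hy hx
    exact (congrArg Subtype.val this.eq).symm
  refine hG ?_
  have hall : ∀ (r : ℕ) [Fact r.Prime] (R : Sylow r G), (R : Subgroup G).Normal := by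
    intro r hrf R
    by_cases hrp : r = p
    · subst hrp
      obtain ⟨c, hc⟩ := MulAction.exists_smul_eq G P R
      suffices h : (P : Subgroup G).Normal by
        rw [← hc, Sylow.coe_subgroup_smul, conj_smul_of_normal h]
        exact h
      -- `P` is normalized by every Sylow subgroup
      refine normalizer_eq_top_iff.1 (eq_top_iff.2 ?_)
      have htop : M ≤ normalizer ((P : Subgroup G) : Set G) := by
        intro m hm
        have hgen : ∀ s : ℕ, (hs : s.Prime) → ∀ S : Sylow s M,
            (S : Subgroup M).map M.subtype ≤ normalizer ((P : Subgroup G) : Set G) := by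
          intro s hs S
          haveI := Fact.mk hs
          by_cases hsp : s = r
          · subst hsp
            refine le_trans ?_ le_normalizer
            obtain ⟨T, hT⟩ := (S.2.map M.subtype).exists_le_sylow
            haveI : (S : Subgroup M).Normal :=
              Sylow.normal_of_normalizerCondition Group.normalizerCondition_of_isNilpotent S
            haveI : (S : Subgroup M).Characteristic := Sylow.characteristic_of_normal S inferInstance
            obtain ⟨g, hg⟩ := MulAction.exists_smul_eq G T P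
            intro z hz
            have hz' : g⁻¹ * z * g ∈ (S : Subgroup M).map M.subtype := by
              have := (inferInstance : ((S : Subgroup M).map M.subtype).Normal).conj_mem z hz g⁻¹
              simpa using this
            rw [← hg, Sylow.coe_subgroup_smul]
            exact ⟨g⁻¹ * z * g, hT hz', by simp [mul_assoc]⟩
          · obtain ⟨R, hRn, hRi⟩ := hR s hs hsp
            refine le_trans (b := (R : Subgroup G)) ?_ (le_trans (b := centralizer ((P : Subgroup G) : Set G))
              (fun x hx => ?_) (centralizer_le_normalizer _))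
            · obtain ⟨T, hT⟩ := (S.2.map M.subtype).exists_le_sylow
              haveI := hRn
              obtain ⟨g, hg⟩ := MulAction.exists_smul_eq G R T
              refine hT.trans (le_of_eq ?_)
              rw [← hg, Sylow.coe_subgroup_smul, conj_smul_of_normal hRn]
            · exact mem_centralizer_iff.2 fun y hy => (hthird s hs hsp R hRn hRi x hx y hy).eq.symm
        have hsup : (⊤ : Subgroup M) ≤ (normalizer ((P : Subgroup G) : Set G)).subgroupOf M := by
          refine ge_of_eq (eq_top_of_card_eq _ (Nat.dvd_antisymm (card_subgroup_dvd_card _) ?_))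
          rw [Nat.dvd_iff_prime_pow_dvd_dvd]
          intro s k hs hsk
          haveI := Fact.mk hs
          obtain ⟨S⟩ : Nonempty (Sylow s M) := inferInstance
          exact (S.pow_dvd_card_of_pow_dvd_card hsk).trans
            (card_dvd_of_le fun z hz => hgen s hs S ⟨z, hz, rfl⟩)
        exact hsup (mem_top ⟨m, hm⟩)
      rw [← hPM]
      exact sup_le htop le_normalizer
    · obtain ⟨R₀, hR₀, -⟩ := hR r hrf.out hrp
      obtain ⟨c, hc⟩ := MulAction.exists_smul_eq G R₀ R
      rw [← hc, Sylow.coe_subgroup_smul, conj_smul_of_normal hR₀]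
      exact hR₀
  exact ((Group.isNilpotent_of_finite_tfae (G := G)).out 0 3).mpr fun r hr R => @hall r hr R

end Cfsg.Agent.Coprime.OddInvariant
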