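import Cfsg.Agent.Lib.Coprime.Sylow
import Cfsg.Agent.Lib.Hall.OddExt

/-!
Invariant Sylow subgroups for a coprime group of operators, granted solvability of odd order groups.
-/

set_option autoImplicit false

open scoped Pointwise

namespace Cfsg.Agent.Coprime.OddInvariant

open Subgroup Cfsg.Agent.Hall.OddExt

universe u v

variable {G : Type u} [Group G] [Finite G] {A : Type v} [Group A] [Finite A]

theorem invariant_map_eq (φ : A →* MulAut G) {H : Subgroup G}
    (hH : ∀ a, ∀ x ∈ H, φ a x ∈ H) (a : A) : H.map (φ a).toMonoidHom = H := by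
  refine eq_of_le_of_card_ge ?_ (Nat.le_of_eq ?_)
  · rintro _ ⟨x, hx, rfl⟩
    exact hH a x hx
  · exact (Nat.card_congr (H.equivMapOfInjective _ (φ a).injective).toEquiv)

theorem normalizer_invariant (φ : A →* MulAut G) {H : Subgroup G}
    (hH : ∀ a, ∀ x ∈ H, φ a x ∈ H) :
    ∀ a, ∀ x ∈ normalizer (H : Set G), φ a x ∈ normalizer (H : Set G) := by
  intro a x hx
  have h : (normalizer (H : Set G)).map (φ a).toMonoidHom = normalizer (H : Set G) := by
    rw [map_equiv_normalizer_eq, invariant_map_eq φ hH a]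
  exact h.le ⟨x, hx, rfl⟩

/-- An invariant Sylow subgroup of `K` under `A` and a subgroup `M` normalizing `K`. -/
theorem exists_sylow_pair (hodd : OddSolvable.{u}) (φ : A →* MulAut G)
    (hcop : (Nat.card A).Coprime (Nat.card G)) (M K : Subgroup G)
    (hMK : M ≤ normalizer (K : Set G)) (hcMK : (Nat.card M).Coprime (Nat.card K))
    (hMinv : ∀ a, ∀ x ∈ M, φ a x ∈ M) (hKinv : ∀ a, ∀ x ∈ K, φ a x ∈ K)
    (q : ℕ) [Fact q.Prime] :
    ∃ P : Sylow q K, (∀ a, ∀ x ∈ (P : Subgroup K).map K.subtype,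
        φ a x ∈ (P : Subgroup K).map K.subtype) ∧
      M ≤ normalizer ((P : Subgroup K).map K.subtype : Set G) := by
  set B := φ.range
  let ψ : B →* MulAut G := B.subtype
  let i : G →* G ⋊[ψ] B := SemidirectProduct.inl
  let j : B →* G ⋊[ψ] B := SemidirectProduct.inr
  have hi : Function.Injective i := SemidirectProduct.inl_injective
  haveI : Finite (G ⋊[ψ] B) := Finite.of_equiv _ SemidirectProduct.equivProd.symm
  have hconj : ∀ (b : B) (x : G), j b * i x * (j b)⁻¹ = i ((b : MulAut G) x) := fun b x => by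
    rw [← map_inv]; exact (SemidirectProduct.inl_aut (φ := ψ) b x).symm
  have hinvB : ∀ (L : Subgroup G), (∀ a, ∀ x ∈ L, φ a x ∈ L) →
      j.range ≤ normalizer (L.map i : Set (G ⋊[ψ] B)) := by
    intro L hL
    rw [le_normalizer_iff]
    rintro _ ⟨⟨b, a, rfl⟩, rfl⟩ _ ⟨x, hx, rfl⟩
    exact ⟨φ a x, hL a x hx, (hconj ⟨φ a, a, rfl⟩ x).symm⟩
  have hdisj : Disjoint (M.map i) j.range := by
    rw [disjoint_def]
    rintro _ ⟨x, -, rfl⟩ ⟨b, hb⟩
    have h1 := congrArg (fun z => z.right) hb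
    simp only [i, j, SemidirectProduct.right_inl, SemidirectProduct.right_inr] at h1
    rw [← hb, h1, map_one]
  have hcA : Nat.card ↥(M.map i ⊔ j.range) = Nat.card M * Nat.card B := by
    rw [Coprime.card_sup_of_disjoint (hinvB M hMinv) hdisj, card_map_of_injective hi,
      ← Nat.card_congr (MonoidHom.ofInjective (f := j) SemidirectProduct.inr_injective).toEquiv]
  have hAK : M.map i ⊔ j.range ≤ normalizer (K.map i : Set (G ⋊[ψ] B)) :=
    sup_le ((map_mono hMK).trans (le_normalizer_map i)) (hinvB K hKinv)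
  have hBcard : Nat.card B ∣ Nat.card A := card_range_dvd φ
  have hcop' : (Nat.card ↥(M.map i ⊔ j.range)).Coprime (Nat.card (K.map i)) := by
    rw [hcA, card_map_of_injective hi]
    exact Nat.Coprime.mul_left hcMK
      ((hcop.coprime_dvd_left hBcard).coprime_dvd_right K.card_subgroup_dvd_card)
  obtain ⟨Q, hQ⟩ := Coprime.exists_invariant_sylow q hAK hcop' (solvable_or hodd hcop')
  set Qg := (Q : Subgroup (K.map i)).map (K.map i).subtype with hQg
  have hQgK : Qg ≤ K.map i := map_subtype_le _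
  set U := Qg.comap i with hU
  have hUK : U ≤ K := fun x hx => by
    obtain ⟨y, hy, hyx⟩ := hQgK hx
    exact hi hyx ▸ hy
  have hUmap : U.map i = Qg := by
    refine le_antisymm (map_comap_le _ _) fun z hz => ?_
    obtain ⟨y, hy, rfl⟩ := hQgK hz
    exact ⟨y, hz, rfl⟩
  have hcard : Nat.card (U.subgroupOf K) = q ^ (Nat.card K).factorization q := by
    rw [Nat.card_congr (subgroupOfEquivOfLe hUK).toEquiv, ← card_map_of_injective (K := U) hi,
      hUmap, hQg, card_subtype, Q.card_eq_multiplicity, card_map_of_injective hi]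
  refine ⟨Sylow.ofCard _ hcard, ?_, ?_⟩
  · rw [Sylow.coe_ofCard, map_subgroupOf_eq_of_le hUK]
    intro a x hx
    show i (φ a x) ∈ Qg
    rw [← hconj ⟨φ a, a, rfl⟩ x]
    exact (mem_normalizer_iff.1 (hQ (mem_sup_right ⟨_, rfl⟩)) (i x)).1 hx
  · rw [Sylow.coe_ofCard, map_subgroupOf_eq_of_le hUK]
    intro m hm
    have h := hQ (mem_sup_left (mem_map_of_mem i hm))
    rw [mem_normalizer_iff]
    intro x
    show i x ∈ Qg ↔ i (m * x * m⁻¹) ∈ Qg
    rw [map_mul, map_mul, map_inv]
    exact mem_normalizer_iff.1 h (i x)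

/-- An invariant Sylow subgroup. -/
theorem exists_sylow (hodd : OddSolvable.{u}) (φ : A →* MulAut G)
    (hcop : (Nat.card A).Coprime (Nat.card G)) (q : ℕ) [Fact q.Prime] :
    ∃ P : Sylow q G, ∀ a, ∀ x ∈ (P : Subgroup G), φ a x ∈ (P : Subgroup G) := by
  obtain ⟨P, hP, -⟩ := exists_sylow_pair hodd φ hcop ⊥ ⊤ bot_le
    (by rw [card_bot]; exact Nat.coprime_one_left _)
    (fun a x hx => by rw [mem_bot.1 hx, map_one]; exact one_mem _) (fun _ _ _ => mem_top _) q
  have hcard : Nat.card ((P : Subgroup (⊤ : Subgroup G)).map (⊤ : Subgroup G).subtype) =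
      q ^ (Nat.card G).factorization q := by
    rw [card_subtype, P.card_eq_multiplicity, card_top]
  exact ⟨Sylow.ofCard _ hcard, hP⟩

end Cfsg.Agent.Coprime.OddInvariant
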