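import Cfsg.Agent.Lib.Coprime.OddInvariant.AllNilpotent
import Cfsg.Agent.Lib.Components.NilpotentInvariant.Orbit

/-!
A coprime action with a nilpotent maximal invariant subgroup whose Sylow 2-subgroup has class at
most two.
-/

set_option autoImplicit false
set_option linter.style.haveILetI false

open scoped Pointwise commutatorElement

namespace Cfsg.Agent.Coprime.OddInvariant

open Subgroup Cfsg Cfsg.Agent.Hall.OddExt

universe u v

variable {G : Type u} [Group G] [Finite G] {A : Type v} [Group A] [Finite A]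

/-- A nilpotent maximal invariant subgroup with trivial invariant core. -/
structure MaxSetup (φ : A →* MulAut G) (M : Subgroup G) : Prop where
  top : M ≠ ⊤
  inv : ∀ a, ∀ x ∈ M, φ a x ∈ M
  max : ∀ H : Subgroup G, M ≤ H → H ≠ ⊤ → (∀ a, ∀ x ∈ H, φ a x ∈ H) → H = M
  nilp : Group.IsNilpotent M
  core : ∀ N : Subgroup G, N.Normal → (∀ a, ∀ x ∈ N, φ a x ∈ N) → N ≤ M → N = ⊥

variable {φ : A →* MulAut G} {M : Subgroup G}

theorem MaxSetup.normalizer_eq (h : MaxSetup φ M) {X : Subgroup G} (hX : X ≤ M) (hX1 : X ≠ ⊥)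
    (hXi : ∀ a, ∀ x ∈ X, φ a x ∈ X) (hn : M ≤ normalizer (X : Set G)) :
    normalizer (X : Set G) = M :=
  h.max _ hn (fun ht => hX1 (h.core X (normalizer_eq_top_iff.mp ht) hXi hX))
    (normalizer_invariant φ hXi)

theorem MaxSetup.exists_sylow (h : MaxSetup φ M) {p : ℕ} [Fact p.Prime] (hp : p ∣ Nat.card M) :
    ∃ P : Sylow p G, (P : Subgroup G) ≤ M ∧ (P : Subgroup G) ≠ ⊥ ∧
      (∀ a, ∀ x ∈ (P : Subgroup G), φ a x ∈ (P : Subgroup G)) ∧
      M ≤ normalizer ((P : Subgroup G) : Set G) := by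
  have := h.nilp
  obtain ⟨T⟩ : Nonempty (Sylow p M) := inferInstance
  have hTn : (T : Subgroup M).Normal :=
    Sylow.normal_of_normalizerCondition Group.normalizerCondition_of_isNilpotent T
  set P := (T : Subgroup M).map M.subtype with hP
  have hPM : P ≤ M := map_subtype_le _
  have hP1 : P ≠ ⊥ := by
    rw [hP, Ne, map_eq_bot_iff_of_injective _ M.subtype_injective]
    exact T.ne_bot_of_dvd_card hp
  have hMN : M ≤ normalizer (P : Set G) := by
    intro m hm
    rw [mem_normalizer_iff]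
    intro z
    constructor
    · rintro ⟨w, hw, rfl⟩
      exact ⟨⟨m, hm⟩ * w * ⟨m, hm⟩⁻¹, hTn.conj_mem w hw _, rfl⟩
    · rintro ⟨w, hw, hwz⟩
      have hwz' : (w : G) = m * z * m⁻¹ := hwz
      refine ⟨(⟨m, hm⟩ : M)⁻¹ * w * ⟨m, hm⟩, (by have h5 := hTn.conj_mem w hw (⟨m, hm⟩ : M)⁻¹; rwa [inv_inv] at h5), ?_⟩
      show m⁻¹ * (w : G) * m = z
      rw [hwz']; group
  have hTp : IsPGroup p P := T.2.map M.subtype
  have hPi : ∀ a, ∀ x ∈ P, φ a x ∈ P := by
    intro a x hx
    have hsub : ((P.map (φ a).toMonoidHom).subgroupOf M) ≤ (T : Subgroup M) := by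
      have hpg : IsPGroup p ((P.map (φ a).toMonoidHom).subgroupOf M) :=
        (hTp.map _).comap_subtype (K := M)
      obtain ⟨T', hT'⟩ := hpg.exists_le_sylow
      obtain ⟨g, rfl⟩ := MulAction.exists_smul_eq M T T'
      rwa [Sylow.smul_eq_of_normal] at hT'
    refine ⟨⟨φ a x, h.inv a x (hPM hx)⟩, hsub ?_, rfl⟩
    exact ⟨x, hx, rfl⟩
  have hN := h.normalizer_eq hPM hP1 hPi hMN
  obtain ⟨S, hS⟩ := hTp.exists_le_sylow
  refine ⟨S, ?_⟩
  suffices (S : Subgroup G) = P by rw [this]; exact ⟨hPM, hP1, hPi, hMN⟩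
  by_contra hne
  have hlt : P.subgroupOf (S : Subgroup G) < ⊤ := by
    rw [lt_top_iff_ne_top, Ne, subgroupOf_eq_top]
    exact fun h' => hne (le_antisymm h' hS)
  obtain ⟨s, hsN, hsP⟩ := SetLike.exists_of_lt
    ((Group.normalizerCondition_of_isNilpotent (h := S.2.isNilpotent)) _ hlt)
  rw [← subgroupOf_normalizer_eq hS, mem_subgroupOf, hN] at hsN
  refine hsP (mem_subgroupOf.mpr ⟨⟨(s : G), hsN⟩, ?_, rfl⟩)
  refine (QuotientGroup.eq_one_iff _).mp (orderOf_eq_one_iff.mp ?_)
  obtain ⟨k, hk⟩ := GStructB.PElements.exists_orderOf_eq S.2 s.2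
  exact Nat.eq_one_of_dvd_coprimes
    ((((Fact.out : p.Prime).coprime_iff_not_dvd).mpr T.not_dvd_index).pow_left k)
    ((orderOf_map_dvd (QuotientGroup.mk' (T : Subgroup M)) _).trans
      (dvd_of_eq ((Subgroup.orderOf_mk _ hsN).trans hk)))
    (by rw [index_eq_card]; exact _root_.orderOf_dvd_natCard _)

/-- In a nilpotent group elements of coprime orders commute. -/
theorem commute_of_coprime (hM : Group.IsNilpotent M) {x y : G} (hx : x ∈ M) (hy : y ∈ M) {k : ℕ}
    (hyk : orderOf y = 2 ^ k) (hxo : (orderOf x).Coprime 2) : x * y = y * x := by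
  haveI : Fact (Nat.Prime 2) := ⟨Nat.prime_two⟩
  haveI := hM
  obtain ⟨N, hN, hNc, j, hNi⟩ := Transfer.NormalPComplement.hasNormalPComplement_iff_exists.1
    (Cfsg.Agent.Solvable.Thompson.hasNormalPComplement_of_nilpotent (H := M) (q := 2))
  obtain ⟨T⟩ : Nonempty (Sylow 2 M) := inferInstance
  have hTn : (T : Subgroup M).Normal :=
    Sylow.normal_of_normalizerCondition Group.normalizerCondition_of_isNilpotent T
  have hxN : (⟨x, hx⟩ : M) ∈ N := by
    haveI := hN
    refine (QuotientGroup.eq_one_iff _).mp (orderOf_eq_one_iff.mp (Nat.eq_one_of_dvd_coprimes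
      (hxo.pow_right j) ((orderOf_map_dvd (QuotientGroup.mk' N) (⟨x, hx⟩ : M)).trans
        (dvd_of_eq (Subgroup.orderOf_mk x hx))) ?_))
    rw [← hNi, index_eq_card]
    exact _root_.orderOf_dvd_natCard _
  have hyT : (⟨y, hy⟩ : M) ∈ (T : Subgroup M) := by
    have hp : IsPGroup 2 (zpowers (⟨y, hy⟩ : M)) :=
      IsPGroup.of_card (n := k) (by rw [Nat.card_zpowers, Subgroup.orderOf_mk, hyk])
    obtain ⟨T', hT'⟩ := hp.exists_le_sylow
    obtain ⟨g, rfl⟩ := MulAction.exists_smul_eq M T T'
    rw [Sylow.smul_eq_of_normal] at hT'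
    exact hT' (mem_zpowers _)
  have hd : Disjoint N (T : Subgroup M) := Coprime.disjoint_of_coprime (by
    rw [T.card_eq_multiplicity]
    exact hNc.pow_right _)
  exact congrArg Subtype.val
    (Subgroup.commute_of_normal_of_disjoint N _ hN hTn hd _ _ hxN hyT).eq

theorem MaxSetup.complement (h : MaxSetup φ M) (hcop : (Nat.card A).Coprime (Nat.card G))
    (hcl : ∀ (S : Subgroup G), S ≤ M → IsPGroup 2 S → Components.NilpotentInvariant.ClassTwo S)
    {p : ℕ} [hp : Fact p.Prime] (hpM : p ∣ Nat.card M) : HasNormalPComplement p G := by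
  obtain ⟨P, hPM, hP1, hPi, hMN⟩ := h.exists_sylow hpM
  have hnil := h.nilp
  rcases eq_or_ne p 2 with rfl | hp2
  · refine Transfer.Frobenius.hasNormalPComplement_of_condition ?_
    by_contra hno
    have hself : ∀ g ∈ normalizer ((P : Subgroup G) : Set G), (orderOf g).Coprime 2 →
        g ∈ centralizer ((P : Subgroup G) : Set G) := by
      intro g hg ho y hy
      rw [h.normalizer_eq hPM hP1 hPi hMN] at hg
      obtain ⟨k, hk⟩ := GStructB.PElements.exists_orderOf_eq P.2 hy
      exact (commute_of_coprime hnil hg (hPM hy) hk ho).symm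
    have hAodd : (Nat.card A).Coprime 2 :=
      hcop.coprime_dvd_right (hpM.trans M.card_subgroup_dvd_card)
    obtain ⟨W, hWP, hW1, hPW, hWi, x, hxN, hxo, hxC⟩ :=
      Components.NilpotentInvariant.exists_invariant φ P (hcl _ hPM P.2) hself
        (invariant_map_eq φ hPi)
        (fun a => hAodd.coprime_dvd_left ((orderOf_map_dvd φ a).trans (_root_.orderOf_dvd_natCard a)))
        hno
    have hMW : M ≤ normalizer (W : Set G) := by
      intro m hm
      obtain ⟨N, hN, hNc, j, hNi⟩ := Transfer.NormalPComplement.hasNormalPComplement_iff_exists.1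
        (Cfsg.Agent.Solvable.Thompson.hasNormalPComplement_of_nilpotent (H := M) (q := 2))
      haveI := hN
      obtain ⟨T, hT⟩ : ∃ T : Sylow 2 M, (T : Subgroup M) = (P : Subgroup G).subgroupOf M :=
        ⟨P.subtype hPM, rfl⟩
      have hc := Transfer.NormalPComplement.isComplement'_of_coprime_card hNc hNi T
      obtain ⟨⟨⟨n, hn⟩, ⟨s, hs⟩⟩, hns⟩ := hc.2 ⟨m, hm⟩
      have hmeq : m = (n : G) * (s : G) := (congrArg Subtype.val hns).symm
      rw [hT] at hs
      rw [hmeq]
      refine mul_mem ?_ (hPW hs)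
      have hno' : (orderOf (n : G)).Coprime 2 := by
        rw [Subgroup.orderOf_coe]
        exact hNc.coprime_dvd_left (N.orderOf_dvd_natCard hn)
      exact centralizer_le_normalizer _ (mem_centralizer_iff.2 fun w hw => by
        obtain ⟨k, hk⟩ := GStructB.PElements.exists_orderOf_eq P.2 (hWP hw)
        exact (commute_of_coprime hnil n.2 (hPM (hWP hw)) hk hno').symm)
    rw [h.normalizer_eq (hWP.trans hPM) hW1 hWi hMW] at hxN
    refine hxC fun y hy => ?_
    obtain ⟨k, hk⟩ := GStructB.PElements.exists_orderOf_eq P.2 hy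
    exact (commute_of_coprime hnil hxN (hPM hy) hk hxo).symm
  · set Z := centerThompsonOf p (P : Subgroup G) with hZ
    have hZi : ∀ a, ∀ x ∈ Z, φ a x ∈ Z := fun a x hx => by
      have e : Z.map (φ a).toMonoidHom = Z := by
        show (PLocal.ThompsonComplement.Z (thompsonSubgroupOf p (P : Subgroup G))).map _ = _
        rw [PLocal.ThompsonComplement.map_Z (φ a).injective.injOn,
          PLocal.ThompsonComplement.map_J (φ a).injective.injOn, invariant_map_eq φ hPi a]
        rfl
      exact e.le ⟨x, hx, rfl⟩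
    have hZ1 : Z ≠ ⊥ := PLocal.ThompsonComplement.Z_ne_bot
      (P.2.to_le (PLocal.ThompsonComplement.J_le _)) (PLocal.ThompsonComplement.J_ne_bot P.2 hP1)
    have hN := h.normalizer_eq ((inf_le_left.trans (PLocal.ThompsonComplement.J_le _)).trans hPM)
      hZ1 hZi (hMN.trans ((PLocal.ThompsonComplement.normalizer_le_J _).trans
        (PLocal.ThompsonComplement.normalizer_le_Z _)))
    refine PLocal.ZJCenterFusion.hasNormalPComplement hp2 P ?_
    rw [show normalizer (centerThompsonOf p (P : Subgroup G) : Set G) = M from hN]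
    exact Cfsg.Agent.Solvable.Thompson.hasNormalPComplement_of_nilpotent

theorem MaxSetup.isSolvable (hodd : OddSolvable.{u}) (h : MaxSetup φ M)
    (hcop : (Nat.card A).Coprime (Nat.card G))
    (hcl : ∀ (S : Subgroup G), S ≤ M → IsPGroup 2 S → Components.NilpotentInvariant.ClassTwo S) :
    Group.IsSolvable G := by
  classical
  have hc : ∀ p : ℕ, p.Prime → p ∣ Nat.card M → HasNormalPComplement p G := fun p hp hpM => by
    haveI := Fact.mk hp
    exact h.complement hcop hcl hpM
  set K : Subgroup G := ⨅ (p : ℕ) (_ : p.Prime ∧ p ∣ Nat.card M), pResidual p G with hK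
  have hKn : K.Normal :=
    normal_iInf_normal fun p => normal_iInf_normal fun hp => by
      have := Fact.mk hp.1
      infer_instance
  have hKi : ∀ a, ∀ x ∈ K, φ a x ∈ K := fun a x hx => by
    simp only [hK, mem_iInf] at hx ⊢
    intro p hp
    haveI := Fact.mk hp.1
    exact Transfer.NormalPComplement.map_pResidual_le (p := p) (φ a).toMonoidHom
      ⟨x, hx p hp, rfl⟩
  have hKcop : ∀ p : ℕ, p.Prime → p ∣ Nat.card M → (Nat.card K).Coprime p := by
    intro p hp hpM
    have := Fact.mk hp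
    refine (Transfer.NormalPComplement.hasNormalPComplement_iff_pResidual.mp (hc p hp hpM)).coprime_dvd_left
      (card_dvd_of_le ?_)
    exact iInf_le_of_le p (iInf_le_of_le ⟨hp, hpM⟩ le_rfl)
  have hcopMK : (Nat.card M).Coprime (Nat.card K) :=
    Nat.coprime_of_dvd fun p hp hpM hpK =>
      hp.ne_one (Nat.eq_one_of_dvd_coprimes (hKcop p hp hpM) hpK dvd_rfl)
  have hK1 : K ≠ ⊥ := by
    intro hK1
    have hdvd : ∀ q : ℕ, q.Prime → q ∣ Nat.card G → q ∣ Nat.card M := by
      intro q hq hqG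
      by_contra hqM
      have := Fact.mk hq
      obtain ⟨y, hy⟩ := exists_prime_orderOf_dvd_card' q hqG
      have hyK : y ∈ K := by
        simp only [hK, mem_iInf]
        intro p hp
        refine Transfer.NormalPComplement.mem_pResidual_of_coprime ?_
        rw [hy]
        exact (Nat.coprime_primes hq hp.1).mpr (fun he => hqM (he ▸ hp.2))
      rw [hK1, mem_bot] at hyK
      rw [hyK, orderOf_one] at hy
      exact hq.ne_one hy.symm
    refine h.top (eq_top_of_card_eq M (Nat.dvd_antisymm M.card_subgroup_dvd_card ?_))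
    rw [Nat.dvd_iff_prime_pow_dvd_dvd]
    intro q k hq hqk
    rcases k with _ | k
    · simp
    have := Fact.mk hq
    obtain ⟨P, hPM, -⟩ := h.exists_sylow (hdvd q hq ((dvd_pow_self q (Nat.succ_ne_zero k)).trans hqk))
    exact (P.pow_dvd_card_of_pow_dvd_card hqk).trans (card_dvd_of_le hPM)
  have hdisj : M ⊓ K = ⊥ := (Coprime.disjoint_of_coprime hcopMK).eq_bot
  obtain ⟨q, hq, hqK⟩ := Nat.exists_prime_and_dvd (fun he => hK1 (K.eq_bot_of_card_eq he))
  have := Fact.mk hq
  obtain ⟨Q, hQi, hQM⟩ := exists_sylow_pair hodd φ hcop M K le_normalizer_of_normal hcopMK h.inv hKi q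
  set Q' := (Q : Subgroup K).map K.subtype with hQ'
  have hQ'K : Q' ≤ K := map_subtype_le _
  have hQ'1 : Q' ≠ ⊥ := by
    rw [hQ', Ne, map_eq_bot_iff_of_injective _ K.subtype_injective]
    exact Q.ne_bot_of_dvd_card hqK
  have hmem : ∀ z ∈ M ⊔ Q', ∃ m ∈ M, ∃ y ∈ Q', z = m * y := by
    intro z hz
    have hz' : z ∈ ((M ⊔ Q' : Subgroup G) : Set G) := hz
    rw [coe_mul_of_left_le_normalizer_right M Q' hQM] at hz'
    obtain ⟨m, hm, y, hy, e⟩ := hz'
    exact ⟨m, hm, y, hy, e.symm⟩
  have htop : M ⊔ Q' = ⊤ := by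
    by_contra hne
    have he := h.max _ le_sup_left hne fun a z hz => by
      obtain ⟨m, hm, y, hy, rfl⟩ := hmem z hz
      rw [map_mul]
      exact mul_mem_sup (h.inv a m hm) (hQi a y hy)
    exact hQ'1 (le_bot_iff.mp (hdisj ▸ le_inf (sup_eq_left.mp he) hQ'K))
  have hKQ : K = Q' := by
    refine le_antisymm (fun x hx => ?_) hQ'K
    obtain ⟨m, hm, y, hy, rfl⟩ := hmem x (htop ▸ mem_top x)
    have hm1 : m = 1 := by
      have : m ∈ M ⊓ K := ⟨hm, by simpa using mul_mem hx (inv_mem (hQ'K hy))⟩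
      rwa [hdisj, mem_bot] at this
    rw [hm1, one_mul]; exact hy
  have hKp : IsPGroup q K := hKQ ▸ Q.2.map K.subtype
  haveI := hKp.isNilpotent
  haveI := h.nilp
  have hqs : Group.IsSolvable (G ⧸ K) := by
    refine Group.isSolvable_of_surjective (f := (QuotientGroup.mk' K).comp M.subtype) ?_
    rw [← MonoidHom.range_eq_top, MonoidHom.range_comp, range_subtype, eq_top_iff,
      ← map_top_of_surjective _ (QuotientGroup.mk'_surjective K), ← htop, Subgroup.map_sup]
    refine sup_le le_rfl ?_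
    rw [(map_eq_bot_iff Q').mpr (by rw [QuotientGroup.ker_mk']; exact hQ'K)]
    exact bot_le
  exact (Group.isSolvable_iff_subgroup_quotient K).mpr ⟨inferInstance, hqs⟩

/-- The 2-subgroups of `M` have class at most two. -/
def ClassTwoBelow (M : Subgroup G) : Prop :=
  ∀ S : Subgroup G, S ≤ M → IsPGroup 2 S → Components.NilpotentInvariant.ClassTwo S

theorem isSolvable_of_nilpotent_maximal (hodd : OddSolvable.{u}) : ∀ (n : ℕ) {G : Type u} [Group G]
    [Finite G] (φ : A →* MulAut G) (M : Subgroup G), Nat.card G = n →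
    (Nat.card A).Coprime (Nat.card G) → M ≠ ⊤ → (∀ a, ∀ x ∈ M, φ a x ∈ M) →
    (∀ H : Subgroup G, M ≤ H → H ≠ ⊤ → (∀ a, ∀ x ∈ H, φ a x ∈ H) → H = M) →
    Group.IsNilpotent M → ClassTwoBelow M → Group.IsSolvable G := by
  intro n
  induction n using Nat.strong_induction_on with
  | _ n ih =>
    intro G _ _ φ M hn hcop hM hMi hMmax hnil hcl
    by_cases hcore : ∀ N : Subgroup G, N.Normal → (∀ a, ∀ x ∈ N, φ a x ∈ N) → N ≤ M → N = ⊥
    · exact MaxSetup.isSolvable hodd ⟨hM, hMi, hMmax, hnil, hcore⟩ hcop hcl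
    push Not at hcore
    obtain ⟨N, hN, hNi, hNM, hN1⟩ := hcore
    haveI := hN
    obtain ⟨ψ, hψ⟩ := exists_quotient_action φ N (invariant_map_eq φ hNi)
    have hcard : Nat.card (G ⧸ N) < Nat.card G := by
      rw [N.card_eq_card_quotient_mul_card_subgroup]
      exact lt_mul_of_one_lt_right Nat.card_pos (N.one_lt_card_iff_ne_bot.2 hN1)
    set f := QuotientGroup.mk' N
    have hfs : Function.Surjective f := QuotientGroup.mk'_surjective N
    have hcm : (M.map f).comap f = M := by
      rw [comap_map_eq, QuotientGroup.ker_mk', sup_eq_left.2 hNM]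
    haveI : Group.IsSolvable (G ⧸ N) := by
      refine ih _ (hn ▸ hcard) ψ (M.map f) rfl (hcop.coprime_dvd_right N.card_quotient_dvd_card)
        ?_ ?_ ?_ ?_ ?_
      · intro h
        rw [h, comap_top] at hcm
        exact hM hcm.symm
      · rintro a _ ⟨x, hx, rfl⟩
        exact ⟨φ a x, hMi a x hx, (hψ a x).symm⟩
      · intro H hMH hH hHi
        have h1 : H.comap f ≠ ⊤ := fun h => hH (by
          rw [← map_comap_eq_self_of_surjective hfs H, h, map_top_of_surjective _ hfs])
        have h2 := hMmax (H.comap f) (map_le_iff_le_comap.1 hMH) h1 fun a x hx => by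
          show ((φ a x : G) : G ⧸ N) ∈ H
          rw [← hψ a x]
          exact hHi a _ hx
        rw [← map_comap_eq_self_of_surjective hfs H, h2]
      · haveI := hnil
        exact Group.nilpotent_of_surjective (f.subgroupMap M) (f.subgroupMap_surjective M)
      · intro S' hS'M hS'
        haveI : Fact (Nat.Prime 2) := ⟨Nat.prime_two⟩
        obtain ⟨T, hT⟩ := hS'.exists_le_sylow
        -- a Sylow subgroup of `M` covers `S'`
        obtain ⟨T₀⟩ : Nonempty (Sylow 2 M) := inferInstance
        haveI := hnil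
        set g := (f.comp M.subtype).codRestrict (M.map f) (fun x => mem_map_of_mem f x.2)
        have hg : Function.Surjective g := fun ⟨_, x, hx, rfl⟩ => ⟨⟨x, hx⟩, rfl⟩
        obtain ⟨R, hR⟩ := (hS'.comap_subtype (K := M.map f)).exists_le_sylow
        haveI : (T₀ : Subgroup M).Normal :=
          Sylow.normal_of_normalizerCondition Group.normalizerCondition_of_isNilpotent T₀
        haveI : ((T₀.mapSurjective hg : Sylow 2 (M.map f)) : Subgroup (M.map f)).Normal :=
          Subgroup.Normal.map inferInstance g hg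
        obtain ⟨c, hc⟩ := MulAction.exists_smul_eq (M.map f) (T₀.mapSurjective hg) R
        rw [Sylow.smul_eq_of_normal] at hc
        have hlift : ∀ s ∈ S', ∃ x ∈ (T₀ : Subgroup M).map M.subtype, f x = s := by
          intro s hs
          have h1 : (⟨s, hS'M hs⟩ : M.map f) ∈ (R : Subgroup (M.map f)) := hR hs
          rw [← hc] at h1
          obtain ⟨y, hy, hys⟩ := h1
          exact ⟨y, ⟨y, hy, rfl⟩, congrArg Subtype.val hys⟩
        intro a ha b hb c' hc'
        obtain ⟨x, hx, rfl⟩ := hlift a ha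
        obtain ⟨y, hy, rfl⟩ := hlift b hb
        obtain ⟨z, hz, rfl⟩ := hlift c' hc'
        rw [← map_commutatorElement, ← map_mul, ← map_mul,
          hcl _ (map_subtype_le _) (T₀.2.map M.subtype) x hx y hy z hz]
    haveI : Group.IsSolvable N := by
      haveI := hnil
      exact Group.isSolvable_of_isSolvable_injective (inclusion_injective hNM)
    exact (Group.isSolvable_iff_subgroup_quotient N).mpr ⟨inferInstance, inferInstance⟩

end Cfsg.Agent.Coprime.OddInvariant
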