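import Cfsg.Agent.Lib.Coprime.OddInvariant.AllNilpotent
import Cfsg.Agent.Lib.Transfer.NormalPComplement
import Cfsg.Agent.S0205
import Cfsg.Agent.S0659
import Cfsg.Agent.S2756

/-!
Coprime action in which the invariant proper subgroups of order divisible by one given prime are nilpotent.
-/

set_option autoImplicit false
set_option linter.all false

open scoped Pointwise

namespace Cfsg.Agent.Coprime.OddInvariant

open Subgroup Cfsg Cfsg.Agent

universe u v

section

variable {G : Type u} [Group G] [Finite G]

theorem core_map_conj (U : Subgroup G) (c : G) :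
    PLocal.MaxAbelian.core 0 (U.map (MulAut.conj c).toMonoidHom) =
      (PLocal.MaxAbelian.core 0 U).map (MulAut.conj c).toMonoidHom :=
  PLocal.MaxAbelian.core_map 0 (MulAut.conj c).injective U

/-- A group with a normal Sylow `2`-subgroup is solvable. -/
theorem isSolvable_of_normal_sylow_two (h : ∀ P : Sylow 2 G, (P : Subgroup G).Normal) : Group.IsSolvable G := by
  haveI : Fact (Nat.Prime 2) := ⟨Nat.prime_two⟩
  obtain ⟨P⟩ := (inferInstance : Nonempty (Sylow 2 G))
  haveI := h P
  haveI := P.2.isNilpotent
  haveI : Group.IsSolvable (G ⧸ (P : Subgroup G)) := by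
    refine Cfsg.Agent.S0205.result ?_
    rw [Nat.odd_iff, ← Nat.two_dvd_ne_zero]
    exact P.not_dvd_index
  exact (Group.isSolvable_iff_subgroup_quotient (P : Subgroup G)).mpr ⟨inferInstance, inferInstance⟩

/-- It suffices to look at one Sylow `q`-subgroup for each odd prime `q`. -/
theorem isSolvable_of_chosen (h : ∀ (q : ℕ) [Fact q.Prime], q ≠ 2 → q ∣ Nat.card G → ∃ T : Sylow q G,
      ∀ x ∈ (T : Subgroup G), x ≠ 1 →
        ∀ g ∈ normalizer (PLocal.MaxAbelian.core 0 (T : Subgroup G) : Set G), g * x * g⁻¹ ≠ x⁻¹) :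
    Group.IsSolvable G := by
  refine isSolvable_of_normal_sylow_two ((Cfsg.Agent.S2756.result (G := G)).2.mpr ?_)
  intro q _ hq T' x hx hx1 g hg he
  rw [PLocal.MaxAbelian.centerThompsonA_eq] at hg
  by_cases hqG : q ∣ Nat.card G
  swap
  · obtain ⟨k, hk⟩ := IsPGroup.iff_card.1 T'.2
    rcases k with _ | k
    · rw [pow_zero, card_eq_one] at hk
      exact hx1 (mem_bot.1 (hk ▸ hx))
    · exact hqG (((dvd_pow_self q k.succ_ne_zero).trans hk.symm.dvd).trans (card_subgroup_dvd_card _))
  obtain ⟨T, hT⟩ := h q hq hqG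
  obtain ⟨c, hc⟩ := MulAction.exists_smul_eq G T T'
  have hT' : (T' : Subgroup G) = (T : Subgroup G).map (MulAut.conj c).toMonoidHom := by
    rw [← hc]; rfl
  rw [hT', core_map_conj, ← map_equiv_normalizer_eq] at hg
  rw [hT'] at hx
  obtain ⟨x₀, hx₀, rfl⟩ := hx
  obtain ⟨g₀, hg₀, rfl⟩ := hg
  refine hT x₀ hx₀ (fun e => hx1 (by rw [e, map_one])) g₀ hg₀ ?_
  apply (MulAut.conj c).injective
  rw [map_mul, map_mul, map_inv, map_inv]
  exact he

/-- Nilpotent groups and groups of odd order have a normal Sylow `2`-subgroup. -/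
theorem normal_sylow_two_of_nilpotent_or_odd (h : Group.IsNilpotent G ∨ ¬ 2 ∣ Nat.card G)
    (P : Sylow 2 G) : (P : Subgroup G).Normal := by
  haveI : Fact (Nat.Prime 2) := ⟨Nat.prime_two⟩
  rcases h with h | h
  · exact Sylow.normal_of_normalizerCondition Group.normalizerCondition_of_isNilpotent P
  · have hP : (P : Subgroup G) = ⊥ := by
      rw [← card_eq_one]
      obtain ⟨k, hk⟩ := IsPGroup.iff_card.1 P.2
      rcases k with _ | k
      · exact hk
      · exact absurd (((dvd_pow_self 2 k.succ_ne_zero).trans hk.symm.dvd).trans (card_subgroup_dvd_card _)) h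
    rw [hP]
    infer_instance

end

section

variable {A : Type v} [Group A] [Finite A]

theorem isSolvable_of_nilpotent_dvd : ∀ (n : ℕ) {G : Type u} [Group G] [Finite G]
    (φ : A →* MulAut G), Nat.card G = n → (Nat.card A).Coprime (Nat.card G) →
    ∀ (p : ℕ) [Fact p.Prime], p ∣ Nat.card G →
    (∀ H : Subgroup G, H ≠ ⊤ → (∀ a, ∀ x ∈ H, φ a x ∈ H) → p ∣ Nat.card H → Group.IsNilpotent H) →
    Group.IsSolvable G := by
  intro n
  induction n using Nat.strong_induction_on with
  | _ n ih =>
    intro G _ _ φ hn hcop p hpF hpG hnil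
    have hodd : Cfsg.Agent.Hall.OddExt.OddSolvable.{u} := fun K _ _ hK => Cfsg.Agent.S0205.result hK
    have hp : p.Prime := Fact.out
    -- reduction by a normal invariant subgroup
    have red : ∀ Z : Subgroup G, Z.Normal → Z ≠ ⊥ → Group.IsSolvable Z → (∀ a, ∀ x ∈ Z, φ a x ∈ Z) →
        (p ∣ Z.index ∨ p ∣ Nat.card Z) → Group.IsSolvable G := by
      intro Z hZn hZ1 hZs hZi hpz
      haveI := hZn
      haveI := hZs
      obtain ⟨ψ, hψ⟩ := exists_quotient_action φ Z (invariant_map_eq φ hZi)
      have hcopq := hcop.coprime_dvd_right Z.card_quotient_dvd_card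
      have hlift : ∀ H : Subgroup (G ⧸ Z), H ≠ ⊤ → (∀ a, ∀ x ∈ H, ψ a x ∈ H) →
          (p ∣ Nat.card H ∨ p ∣ Nat.card Z) → Group.IsNilpotent H := by
        intro H hH hinv hpH
        set L := H.comap (QuotientGroup.mk' Z)
        have hs := (QuotientGroup.mk' Z).subgroupComap_surjective_of_surjective H
          (QuotientGroup.mk'_surjective Z)
        haveI := hnil L (fun h => hH (by
          rw [← map_comap_eq_self_of_surjective (QuotientGroup.mk'_surjective Z) H]
          show L.map _ = ⊤
          rw [h, map_top_of_surjective _ (QuotientGroup.mk'_surjective Z)]))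
          (fun a x hx => by
            show ((φ a x : G) : G ⧸ Z) ∈ H
            rw [← hψ a x]
            exact hinv a _ hx)
          (hpH.elim (fun h => h.trans (Subgroup.card_dvd_of_surjective _ hs))
            (fun h => h.trans (card_dvd_of_le fun z hz => by
              show (z : G ⧸ Z) ∈ H
              rw [(QuotientGroup.eq_one_iff z).2 hz]
              exact one_mem H)))
        exact Group.nilpotent_of_surjective _ hs
      haveI : Group.IsSolvable (G ⧸ Z) := by
        rcases hpz with h | h
        · refine ih _ (hn ▸ ?_) ψ rfl hcopq p h (fun H hH hinv hpH => hlift H hH hinv (Or.inl hpH))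
          rw [Z.card_eq_card_quotient_mul_card_subgroup]
          exact lt_mul_of_one_lt_right Nat.card_pos (Z.one_lt_card_iff_ne_bot.2 hZ1)
        · exact isSolvable_of_nilpotent hodd _ ψ rfl hcopq (fun H hH hinv => hlift H hH hinv (Or.inr h))
      exact (Group.isSolvable_iff_subgroup_quotient Z).mpr ⟨inferInstance, inferInstance⟩
    -- `Z(J(U))` of an invariant subgroup
    have zj : ∀ (q : ℕ), q.Prime → ∀ U : Subgroup G, IsPGroup q U → (∀ a, ∀ x ∈ U, φ a x ∈ U) →
        (∀ a, ∀ x ∈ PLocal.MaxAbelian.core 0 U, φ a x ∈ PLocal.MaxAbelian.core 0 U) ∧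
        IsPGroup q (PLocal.MaxAbelian.core 0 U) ∧
        (U ≠ ⊥ → PLocal.MaxAbelian.core 0 U ≠ ⊥) := by
      intro q hq U hU hUi
      haveI := Fact.mk hq
      refine ⟨fun a x hx => ?_, hU.to_le (PLocal.MaxAbelian.core_le 0 U), fun hU1 => ?_⟩
      · have h1 := PLocal.MaxAbelian.core_map 0 (f := (φ a).toMonoidHom) (φ a).injective U
        rw [invariant_map_eq φ hUi a] at h1
        rw [h1]
        exact mem_map_of_mem (φ a).toMonoidHom hx
      · haveI : Nontrivial U := (nontrivial_iff_ne_bot U).2 hU1
        haveI := hU.center_nontrivial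
        obtain ⟨⟨z, hz⟩, hz1⟩ := exists_ne (1 : Subgroup.center U)
        refine fun h => hz1 (Subtype.ext (Subtype.ext ?_))
        refine mem_bot.1 (h ▸ mem_sInf.2 fun M hM => ?_)
        -- a central element lies in every abelian subgroup of largest order
        by_contra hzM
        have hcomm : ∀ y ∈ M, (z : G) * y = y * z := fun y hy =>
          (congrArg Subtype.val (mem_center_iff.1 hz ⟨y, hM.1 hy⟩)).symm
        set S : Set G := (M : Set G) ∪ {(z : G)}
        have hS : ∀ a ∈ S, ∀ b ∈ S, a * b = b * a := by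
          rintro a (ha | ha) b (hb | hb)
          · exact hM.2.1.1 a ha b hb
          · rw [Set.mem_singleton_iff] at hb; subst hb; exact (hcomm a ha).symm
          · rw [Set.mem_singleton_iff] at ha; subst ha; exact hcomm b hb
          · rw [Set.mem_singleton_iff] at ha hb; rw [ha, hb]
        have hle : closure S ≤ U := (closure_le U).2 (by
          rintro a (ha | ha)
          · exact hM.1 ha
          · rw [Set.mem_singleton_iff] at ha; rw [ha]; exact z.2)
        have hgood : PLocal.MaxAbelian.Good 0 (closure S) :=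
          PLocal.MaxAbelian.good_zero_iff.2 (Subgroup.isMulCommutative_closure hS)
        have hlt : M < closure S := lt_of_le_of_ne (fun a ha => subset_closure (Or.inl ha))
          (fun e => hzM (e ▸ subset_closure (Or.inr rfl)))
        exact (hM.2.2 _ hle hgood).not_gt (Set.Finite.card_lt_card (Set.toFinite _) (SetLike.coe_ssubset_coe.2 hlt))
    rcases eq_or_ne p 2 with rfl | hp2
    · by_contra hns
      refine hns (isSolvable_of_chosen fun q _ hq hqG => ?_)
      obtain ⟨T, hTi⟩ := exists_sylow hodd φ hcop q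
      obtain ⟨hZi, hZq, hZ1⟩ := zj q Fact.out _ T.2 hTi
      set Z := PLocal.MaxAbelian.core 0 (T : Subgroup G) with hZ
      set N := normalizer (Z : Set G) with hN
      have hNt : N ≠ ⊤ := fun h => hns (by
        haveI : Z.Normal := normalizer_eq_top_iff.1 h
        haveI := hZq.isNilpotent
        refine red Z inferInstance (hZ1 (T.ne_bot_of_dvd_card hqG)) inferInstance hZi (Or.inl ?_)
        have h2 : ¬ 2 ∣ Nat.card Z := by
          obtain ⟨k, hk⟩ := IsPGroup.iff_card.1 hZq
          intro hd
          rw [hk] at hd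
          exact hq ((Nat.prime_dvd_prime_iff_eq Nat.prime_two Fact.out).1 (Nat.prime_two.dvd_of_dvd_pow hd)).symm
        rcases Nat.prime_two.dvd_mul.1 (Z.card_mul_index.symm ▸ hpG) with h' | h'
        · exact absurd h' h2
        · exact h')
      have hsyl := normal_sylow_two_of_nilpotent_or_odd (G := N) (by
        by_cases h2 : 2 ∣ Nat.card N
        · exact Or.inl (hnil N hNt (normalizer_invariant φ hZi) h2)
        · exact Or.inr h2)
      refine ⟨T, fun x hx hx1 g hg he => ?_⟩
      obtain ⟨k, hk⟩ := T.2 ⟨x, hx⟩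
      have hxN : x ∈ N := PLocal.MaxAbelian.normalizer_le_normalizer_core 0 _ (le_normalizer hx)
      have hk' : x ^ q ^ k = 1 := congrArg Subtype.val hk
      exact Cfsg.Agent.S2756.no_inversion hsyl hq (x := ⟨x, hxN⟩) (k := k)
        (Subtype.ext hk') (fun e => hx1 (congrArg Subtype.val e)) ⟨g, hg⟩ (Subtype.ext he)
    obtain ⟨P, hPi⟩ := exists_sylow hodd φ hcop p
    obtain ⟨hZi, hZp, hZ1⟩ := zj p hp _ P.2 hPi
    set Z := PLocal.MaxAbelian.core 0 (P : Subgroup G) with hZ
    have hZ1' := hZ1 (P.ne_bot_of_dvd_card hpG)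
    by_cases hN : normalizer (Z : Set G) = ⊤
    · haveI : Z.Normal := normalizer_eq_top_iff.1 hN
      haveI := hZp.isNilpotent
      refine red Z inferInstance hZ1' inferInstance hZi ?_
      rcases hp.dvd_mul.1 (Z.card_mul_index.symm ▸ hpG) with h | h
      · exact Or.inr h
      · exact Or.inl h
    have hPN : (P : Subgroup G) ≤ normalizer (Z : Set G) :=
      le_normalizer.trans (PLocal.MaxAbelian.normalizer_le_normalizer_core 0 _)
    have hpP : p ∣ Nat.card (P : Subgroup G) := by
      obtain ⟨k, hk⟩ := IsPGroup.iff_card.1 P.2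
      rcases k with _ | k
      · rw [pow_zero, card_eq_one] at hk
        exact absurd hk (P.ne_bot_of_dvd_card hpG)
      · rw [hk]; exact dvd_pow_self p k.succ_ne_zero
    haveI := hnil _ hN (normalizer_invariant φ hZi) (hpP.trans (card_dvd_of_le hPN))
    have hG : HasNormalPComplement p G := by
      refine Cfsg.Agent.S0659.result hp2 P ?_
      rw [PLocal.MaxAbelian.centerThompsonA_eq]
      exact Cfsg.Agent.Solvable.Thompson.hasNormalPComplement_of_nilpotent
    set K := pResidual p G with hK
    have hKc : (Nat.card K).Coprime p :=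
      Transfer.NormalPComplement.hasNormalPComplement_iff_pResidual.1 hG
    have hKi : ∀ a, ∀ x ∈ K, φ a x ∈ K := fun a x hx =>
      Transfer.NormalPComplement.map_pResidual_le (p := p) (φ a).toMonoidHom ⟨x, hx, rfl⟩
    by_contra hns
    haveI : Group.IsSolvable K := by
      refine isSolvable_of_chosen fun q _ hq hqK => ?_
      have hpq : q ≠ p := fun e => by
        subst e
        exact hp.ne_one (Nat.eq_one_of_dvd_coprimes hKc hqK dvd_rfl)
      obtain ⟨Q, hQi, hPQ⟩ := exists_sylow_pair hodd φ hcop (P : Subgroup G) K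
        (by rw [normalizer_eq_top_iff.2 (inferInstance : K.Normal)]; exact le_top)
        (by
          obtain ⟨k, hk⟩ := IsPGroup.iff_card.1 P.2
          rw [hk]
          exact Nat.Coprime.pow_left k hKc.symm) hPi hKi q
      set U := (Q : Subgroup K).map K.subtype with hU
      obtain ⟨hWi, hWq, hW1⟩ := zj q Fact.out U (Q.2.map _) hQi
      set W := PLocal.MaxAbelian.core 0 U with hW
      have hUne : U ≠ ⊥ := fun h => Q.ne_bot_of_dvd_card hqK ((map_eq_bot_iff_of_injective _ K.subtype_injective).1 h)
      have hNW : normalizer (W : Set G) ≠ ⊤ := fun h => hns (by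
        haveI : W.Normal := normalizer_eq_top_iff.1 h
        haveI := hWq.isNilpotent
        refine red W inferInstance (hW1 hUne) inferInstance hWi (Or.inl ?_)
        rcases hp.dvd_mul.1 (W.card_mul_index.symm ▸ hpG) with h' | h'
        · obtain ⟨k, hk⟩ := IsPGroup.iff_card.1 hWq
          rw [hk] at h'
          exact absurd ((Nat.prime_dvd_prime_iff_eq hp Fact.out).1 (hp.dvd_of_dvd_pow h')).symm hpq
        · exact h')
      have hPW : (P : Subgroup G) ≤ normalizer (W : Set G) :=
        hPQ.trans (PLocal.MaxAbelian.normalizer_le_normalizer_core 0 _)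
      haveI := hnil _ hNW (normalizer_invariant φ hWi) (hpP.trans (card_dvd_of_le hPW))
      refine ⟨Q, fun x hx hx1 g hg he => ?_⟩
      obtain ⟨k, hk⟩ := Q.2 ⟨x, hx⟩
      have hWeq : W = (PLocal.MaxAbelian.core 0 (Q : Subgroup K)).map K.subtype := by
        rw [hW, hU, PLocal.MaxAbelian.core_map 0 K.subtype_injective]
      have hxN : (x : G) ∈ normalizer (W : Set G) :=
        PLocal.MaxAbelian.normalizer_le_normalizer_core 0 _ (le_normalizer (mem_map_of_mem K.subtype hx))
      have hgN : (g : G) ∈ normalizer (W : Set G) := by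
        rw [hWeq]
        exact le_normalizer_map K.subtype ⟨g, hg, rfl⟩
      exact Cfsg.Agent.S2756.no_inversion (G := normalizer (W : Set G))
        (normal_sylow_two_of_nilpotent_or_odd (Or.inl inferInstance)) hq (x := ⟨(x : G), hxN⟩) (k := k)
        (Subtype.ext (congrArg (fun y => (((y : ↥(Q : Subgroup K)) : K) : G)) hk))
        (fun e => hx1 (Subtype.ext (congrArg (fun y : ↥(normalizer (W : Set G)) => (y : G)) e))) ⟨(g : G), hgN⟩
        (Subtype.ext (congrArg (fun y : K => (y : G)) he))
    refine hns ?_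
    have hq : IsPGroup p (G ⧸ K) := Transfer.NormalPComplement.isPGroup_quotient_pResidual
    haveI := hq.isNilpotent
    exact (Group.isSolvable_iff_subgroup_quotient K).mpr ⟨inferInstance, inferInstance⟩

end

end Cfsg.Agent.Coprime.OddInvariant
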